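import Groth.Agent.S0593
import Groth.Agent.H50.GFin.Orbit

/-!
# Invariant affine opens via an integral restriction of a groupoid (helper50)
-/

set_option autoImplicit false
universe u
open CategoryTheory CategoryTheory.Limits AlgebraicGeometry

namespace Groth.Agent.H50.GInv

open Groth.Agent.H50.GFin

variable {S : Scheme.{u}} (G : Grpd.GroupoidScheme S)

theorem s_i_apply (r : G.R) : G.s (G.i r) = G.t r := by
  rw [← Scheme.Hom.comp_apply, G.i_s]

theorem t_i_apply (r : G.R) : G.t (G.i r) = G.s r := by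
  rw [← Scheme.Hom.comp_apply, G.i_t]

theorem exists_invariant_affine_of_restriction [IsIntegralHom G.s] [IsIntegralHom G.t]
    (U' : Scheme.{u}) (g : U' ⟶ G.U) [IsIntegralHom g]
    (horb : ∀ u : G.U, ∃ r : G.R, G.s r = u ∧ G.t r ∈ Set.range ⇑g) (u' : U') (W' : U'.Opens)
    (hW' : IsAffineOpen W') (hu' : u' ∈ W')
    (hinv : (pullback.fst (pullback.snd g G.t ≫ G.s) g ≫ pullback.fst g G.t) ⁻¹ᵁ W' =
      (pullback.snd (pullback.snd g G.t ≫ G.s) g) ⁻¹ᵁ W') :
    ∃ W : G.U.Opens, IsAffineOpen W ∧ g u' ∈ W ∧ G.s ⁻¹ᵁ W = G.t ⁻¹ᵁ W := by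
  let pr₀ := pullback.fst g G.t
  let h := pullback.snd g G.t ≫ G.s
  have hcond : ∀ x : ↥(pullback g G.t), g (pr₀ x) = G.t (pullback.snd g G.t x) := fun x => by
    rw [← Scheme.Hom.comp_apply, ← Scheme.Hom.comp_apply, pullback.condition]
  have hh : ∀ x : ↥(pullback g G.t), h x = G.s (pullback.snd g G.t x) := fun x => rfl
  -- the key consequence of invariance
  have K : ∀ (u₁ u₂ : U') (r : G.R), G.t r = g u₁ → G.s r = g u₂ → (u₁ ∈ W' ↔ u₂ ∈ W') := by
    intro u₁ u₂ r h1 h2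
    obtain ⟨x, hx1, hx2⟩ := Scheme.Pullback.exists_preimage_pullback (f := g) (g := G.t) u₁ r h1.symm
    have hx : h x = g u₂ := by rw [hh, hx2, h2]
    obtain ⟨ρ, hρ1, hρ2⟩ := Scheme.Pullback.exists_preimage_pullback (f := h) (g := g) x u₂ hx
    have e := congrArg (fun V : (pullback h g).Opens => ρ ∈ V) hinv
    have e' : (pr₀ (pullback.fst h g ρ) ∈ W') = (pullback.snd h g ρ ∈ W') := e
    rw [hρ1, hρ2] at e'
    change (pullback.fst g G.t x ∈ W') = _ at e'
    rw [hx1] at e'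
    exact e'.to_iff
  let Wset : Set ↥G.U := ⇑h '' (⇑pr₀ ⁻¹' (W' : Set ↥U'))
  have A : ∀ x : ↥(pullback g G.t), h x ∈ Wset ↔ pr₀ x ∈ W' := by
    intro x
    constructor
    · rintro ⟨y, hy, hyx⟩
      have hy' : pr₀ y ∈ W' := hy
      set r₁ := pullback.snd g G.t x
      set r₂ := pullback.snd g G.t y
      have hs : G.s r₁ = G.t (G.i r₂) := by
        rw [t_i_apply]; exact hyx.symm
      obtain ⟨r₃, h31, h32⟩ := exists_comp_point G r₁ (G.i r₂) hs
      rw [s_i_apply] at h31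
      exact (K (pr₀ x) (pr₀ y) r₃ (h32.trans (hcond x).symm) (h31.trans (hcond y).symm)).mpr hy'
    · intro hx
      exact ⟨x, hx, rfl⟩
  have hint : IsIntegralHom h := inferInstanceAs (IsIntegralHom (pullback.snd g G.t ≫ G.s))
  have hsurj : Function.Surjective ⇑h := by
    intro v
    obtain ⟨r, hr1, ⟨u₁, hu₁⟩⟩ := horb v
    obtain ⟨x, -, hx2⟩ := Scheme.Pullback.exists_preimage_pullback (f := g) (g := G.t) u₁ r hu₁
    exact ⟨x, by rw [hh, hx2, hr1]⟩
  have hquot : Topology.IsQuotientMap ⇑h := h.isClosedMap.isQuotientMap h.continuous hsurj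
  have hpre : ⇑h ⁻¹' Wset = ⇑pr₀ ⁻¹' (W' : Set ↥U') := by
    ext x
    exact A x
  have hopen : IsOpen Wset := by
    rw [← hquot.isOpen_preimage, hpre]
    exact W'.2.preimage pr₀.continuous
  let W : G.U.Opens := ⟨Wset, hopen⟩
  have C : ∀ r : G.R, G.s r ∈ Wset → G.t r ∈ Wset := by
    rintro r ⟨y, hy, hyr⟩
    have hy' : pr₀ y ∈ W' := hy
    set r₂ := pullback.snd g G.t y
    obtain ⟨r₁, hr1, ⟨u₁, hu₁⟩⟩ := horb (G.t r)
    obtain ⟨x, hx1, hx2⟩ := Scheme.Pullback.exists_preimage_pullback (f := g) (g := G.t) u₁ r₁ hu₁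
    have hs4 : G.s r = G.t (G.i r₂) := by
      rw [t_i_apply]; exact hyr.symm
    obtain ⟨r₄, h41, h42⟩ := exists_comp_point G r (G.i r₂) hs4
    rw [s_i_apply] at h41
    obtain ⟨r₅, h51, h52⟩ := exists_comp_point G r₁ r₄ (hr1.trans h42.symm)
    have hu₁W : u₁ ∈ W' :=
      (K u₁ (pr₀ y) r₅ (h52.trans hu₁.symm) (h51.trans (h41.trans (hcond y).symm))).mpr hy'
    refine ⟨x, ?_, ?_⟩
    · change pr₀ x ∈ W'
      rw [show pr₀ x = u₁ from hx1]; exact hu₁W
    · rw [hh, hx2, hr1]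
  have hWinv : G.s ⁻¹ᵁ W = G.t ⁻¹ᵁ W := by
    ext r
    constructor
    · exact C r
    · intro hr
      have h1 : G.s (G.i r) ∈ Wset := by rw [s_i_apply]; exact hr
      have h2 := C (G.i r) h1
      rwa [t_i_apply] at h2
  have hguW : g u' ∈ W := by
    have hc : g u' = G.t (G.e (g u')) := (t_e_apply G _).symm
    obtain ⟨x, hx1, hx2⟩ := Scheme.Pullback.exists_preimage_pullback (f := g) (g := G.t) u'
      (G.e (g u')) hc
    refine ⟨x, ?_, ?_⟩
    · change pr₀ x ∈ W'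
      rw [show pr₀ x = u' from hx1]; exact hu'
    · rw [hh, hx2, s_e_apply]
  refine ⟨W, ?_, hguW, hWinv⟩
  -- affineness
  have heq : h ⁻¹ᵁ W = pr₀ ⁻¹ᵁ W' := by
    ext x
    exact A x
  have haff1 : IsAffineOpen (pr₀ ⁻¹ᵁ W') := hW'.preimage pr₀
  have haff2 : IsAffineOpen (h ⁻¹ᵁ W) := heq ▸ haff1
  have : IsAffine (h ⁻¹ᵁ W).toScheme := haff2
  have : Surjective h := ⟨hsurj⟩
  have : Surjective (h ∣_ W) :=
    MorphismProperty.of_isPullback (isPullback_morphismRestrict h W).flip inferInstance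
  have : UniversallyClosed (h ∣_ W) := inferInstance
  exact Groth.Agent.S0593.result _ _ (h ∣_ W)

end Groth.Agent.H50.GInv
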